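import Mathlib

/-!
# Cutting an étale closed subscheme out of a smooth algebra
-/

set_option autoImplicit false
set_option linter.style.haveILetI false
universe u

open TensorProduct KaehlerDifferential

namespace Groth.Agent.EtSlice2

variable {A B : Type u} [CommRing A] [CommRing B] [Algebra A B]

/-- If the differentials of a family form a basis, the quotient by the family is étale. -/
theorem etale_quotient [Algebra.Smooth A B] {κ : Type u} [Finite κ] (g : κ → B)
    (hψ : Function.Bijective (Finsupp.linearCombination B fun i => D A B (g i))) :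
    Algebra.Etale A (B ⧸ Ideal.span (Set.range g)) := by
  classical
  let J := Ideal.span (Set.range g)
  let C := B ⧸ J
  let K := KaehlerDifferential.kerCotangentToTensor A B C
  let ψ := LinearEquiv.ofBijective _ hψ
  have hsurj : Function.Surjective (algebraMap B C) := Ideal.Quotient.mk_surjective
  have hmem : ∀ x, x ∈ RingHom.ker (algebraMap B C) ↔ x ∈ J := fun x => Ideal.Quotient.eq_zero_iff_mem
  let gc : κ → RingHom.ker (algebraMap B C) := fun i => ⟨g i, (hmem _).2 (Ideal.subset_span ⟨i, rfl⟩)⟩
  let L : Ω[B⁄A] →ₗ[B] (RingHom.ker (algebraMap B C)).Cotangent :=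
    Finsupp.linearCombination B (fun i => Ideal.toCotangent _ (gc i)) ∘ₗ ψ.symm.toLinearMap
  have hL : ∀ i, L (D A B (g i)) = Ideal.toCotangent _ (gc i) := fun i => by
    have : ψ.symm (D A B (g i)) = Finsupp.single i 1 := by
      rw [LinearEquiv.symm_apply_eq]; simp [ψ]
    simp [L, this]
  have hJ : J ≤ LinearMap.ker (LinearMap.toSpanSingleton B _ L) := fun a ha => by
    rw [LinearMap.mem_ker, LinearMap.toSpanSingleton_apply]
    refine LinearMap.ext fun w => ?_
    rw [LinearMap.smul_apply, LinearMap.zero_apply]
    obtain ⟨v, hv⟩ := Ideal.toCotangent_surjective _ (L w)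
    rw [← hv, ← map_smul, Ideal.toCotangent_eq_zero, sq]
    exact Ideal.mul_mem_mul ((hmem a).2 ha) v.2
  let l : C ⊗[B] Ω[B⁄A] →ₗ[B] (RingHom.ker (algebraMap B C)).Cotangent :=
    TensorProduct.lift (Submodule.liftQ J (LinearMap.toSpanSingleton B _ L) hJ)
  have hl : l ∘ₗ K = LinearMap.id := by
    refine LinearMap.ext fun z => ?_
    obtain ⟨⟨x, hx⟩, rfl⟩ := Ideal.toCotangent_surjective _ z
    obtain ⟨c, hc⟩ := (Finsupp.mem_span_range_iff_exists_finsupp).1 ((hmem x).1 hx)
    have e : (⟨x, hx⟩ : RingHom.ker (algebraMap B C)) = c.sum fun i a => a • gc i := by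
      apply Subtype.ext
      refine hc.symm.trans ?_
      simp [Finsupp.sum, gc]
    rw [e]
    simp only [Finsupp.sum, map_sum, map_smul]
    refine Finset.sum_congr rfl fun i _ => congrArg (c i • ·) ?_
    rw [LinearMap.comp_apply, LinearMap.id_apply, KaehlerDifferential.kerCotangentToTensor_toCotangent]
    show (Submodule.liftQ J (LinearMap.toSpanSingleton B _ L) hJ (Submodule.Quotient.mk (1 : B))) (D A B (g i)) = _
    rw [Submodule.liftQ_apply, LinearMap.toSpanSingleton_apply, one_smul, hL]
  haveI : Algebra.FormallySmooth A C := (Algebra.FormallySmooth.iff_split_injection hsurj).2 ⟨l, hl⟩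
  have hK : Function.Surjective K := by
    intro z
    induction z using TensorProduct.induction_on with
    | zero => exact ⟨0, map_zero _⟩
    | add x y hx hy =>
      obtain ⟨a, rfl⟩ := hx
      obtain ⟨b, rfl⟩ := hy
      exact ⟨a + b, map_add _ _ _⟩
    | tmul c w =>
      obtain ⟨b, rfl⟩ := hsurj c
      obtain ⟨v, rfl⟩ := hψ.2 w
      refine ⟨b • Finsupp.linearCombination B (fun i => Ideal.toCotangent _ (gc i)) v, ?_⟩
      have e1 : K (Finsupp.linearCombination B (fun i => Ideal.toCotangent _ (gc i)) v) =
          (1 : C) ⊗ₜ[B] Finsupp.linearCombination B (fun i => D A B (g i)) v := by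
        induction v using Finsupp.induction_linear with
        | zero => simp
        | add a b ha hb => simp only [map_add, ha, hb, TensorProduct.tmul_add]
        | single i a =>
          simp only [Finsupp.linearCombination_single, map_smul, TensorProduct.tmul_smul]
          exact congrArg (a • ·) (KaehlerDifferential.kerCotangentToTensor_toCotangent A B C (gc i))
      rw [map_smul, e1, TensorProduct.smul_tmul', Algebra.smul_def, mul_one]
  haveI : Algebra.FormallyUnramified A C := by
    refine ⟨⟨fun x y => ?_⟩⟩
    obtain ⟨x, rfl⟩ := KaehlerDifferential.mapBaseChange_surjective A B C hsurj x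
    obtain ⟨y, rfl⟩ := KaehlerDifferential.mapBaseChange_surjective A B C hsurj y
    obtain ⟨a, rfl⟩ := hK x
    obtain ⟨b, rfl⟩ := hK y
    have he := KaehlerDifferential.exact_kerCotangentToTensor_mapBaseChange A B C hsurj
    rw [he.apply_apply_eq_zero, he.apply_apply_eq_zero]
  haveI : Algebra.FormallyEtale A C := Algebra.FormallyEtale.iff_formallyUnramified_and_formallySmooth.2 ⟨inferInstance, inferInstance⟩
  haveI : Algebra.FinitePresentation A C :=
    Algebra.FinitePresentation.quotient (Submodule.fg_span (Set.finite_range g))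
  exact ⟨inferInstance, inferInstance⟩

/-- Elements of an ideal with unramified quotient cutting out an étale algebra near a prime. -/
theorem exists_etale_data [Algebra.Smooth A B] (C₀ : Type u) [CommRing C₀] [Algebra A C₀] [Algebra B C₀]
    [IsScalarTower A B C₀] (hπ : Function.Surjective (algebraMap B C₀)) [Algebra.FormallyUnramified A C₀]
    (q : Ideal B) [q.IsPrime] (hq : RingHom.ker (algebraMap B C₀) ≤ q) :
    ∃ (h : B) (κ : Type u) (_ : Finite κ) (g : κ → B), h ∉ q ∧ (∀ i, algebraMap B C₀ (g i) = 0) ∧
      ∀ (Bh : Type u) [CommRing Bh] [Algebra B Bh] [Algebra A Bh] [IsScalarTower A B Bh]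
        [IsLocalization.Away h Bh], Algebra.Etale A (Bh ⧸ Ideal.span (Set.range fun i => algebraMap B Bh (g i))) := by
  classical
  let Bq := Localization.AtPrime q
  let k := IsLocalRing.ResidueField Bq
  haveI : Algebra.FormallySmooth B Bq := Algebra.FormallySmooth.of_isLocalization q.primeCompl
  haveI : Algebra.FormallySmooth A Bq := Algebra.FormallySmooth.comp A B Bq
  let mk := KaehlerDifferential.map A A B Bq
  haveI : Module.Finite Bq Ω[Bq⁄A] := Module.Finite.of_isLocalizedModule q.primeCompl mk
  haveI : Module.FinitePresentation Bq Ω[Bq⁄A] := Module.finitePresentation_of_projective _ _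
  haveI : Module.FinitePresentation B Ω[B⁄A] := Module.finitePresentation_of_projective _ _
  -- spanning
  let v : RingHom.ker (algebraMap B C₀) → Ω[Bq⁄A] := fun a => D A Bq (algebraMap B Bq a.1)
  have hker : ∀ x : B, x ∈ RingHom.ker (algebraMap B C₀) → algebraMap B k x = 0 := fun x hx => by
    rw [IsScalarTower.algebraMap_apply B Bq k]
    exact (IsLocalRing.residue_eq_zero_iff _).2 ((IsLocalization.AtPrime.to_map_mem_maximal_iff Bq q x).2 (hq hx))
  let φ : C₀ →ₐ[B] k :=
    { toRingHom := (algebraMap B C₀).liftOfSurjective hπ ⟨algebraMap B k, hker⟩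
      commutes' := fun b => RingHom.liftOfRightInverse_comp_apply _ _ _ ⟨algebraMap B k, hker⟩ b }
  let T : C₀ ⊗[B] Ω[B⁄A] →ₗ[B] k ⊗[Bq] Ω[Bq⁄A] :=
    TensorProduct.lift
      (LinearMap.compl₁₂ ((TensorProduct.mk Bq k Ω[Bq⁄A]).restrictScalars₁₂ B B) φ.toLinearMap mk)
  have hsur : Function.Surjective (KaehlerDifferential.kerCotangentToTensor A B C₀) := fun z =>
    (KaehlerDifferential.exact_kerCotangentToTensor_mapBaseChange A B C₀ hπ z).1 (Subsingleton.elim _ _)
  have hspan : Submodule.span Bq (Set.range v) = ⊤ := by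
    refine (IsLocalRing.map_tensorProduct_mk_eq_top).1 (eq_top_iff.2 fun z _ => ?_)
    obtain ⟨w, rfl⟩ := TensorProduct.mk_surjective Bq Ω[Bq⁄A] k IsLocalRing.residue_surjective z
    obtain ⟨⟨ω, s⟩, hs⟩ := IsLocalizedModule.surj q.primeCompl mk w
    obtain ⟨x, hx⟩ := hsur ((1 : C₀) ⊗ₜ ω)
    obtain ⟨a, rfl⟩ := Ideal.toCotangent_surjective _ x
    rw [KaehlerDifferential.kerCotangentToTensor_toCotangent] at hx
    have h2 : (1 : k) ⊗ₜ[Bq] mk (D A B a.1) = (1 : k) ⊗ₜ[Bq] mk ω := by
      have := congrArg T hx
      simpa [T] using this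
    obtain ⟨t, ht⟩ := (IsLocalization.map_units Bq s).exists_left_inv
    have h3 : w = t • mk ω := by
      rw [← hs, Submonoid.smul_def, ← algebraMap_smul Bq (s : B) w, smul_smul, ht, one_smul]
    refine ⟨t • v a, Submodule.smul_mem _ t (Submodule.subset_span ⟨a, rfl⟩), ?_⟩
    have h4 : mk (D A B a.1) = v a := KaehlerDifferential.map_D A A B Bq a.1
    rw [h3, map_smul, map_smul]
    simp only [TensorProduct.mk_apply]
    rw [← h4, h2]
  obtain ⟨κ, a, b, hb⟩ := Module.exists_basis_of_span_of_flat v hspan
  haveI : Finite κ := Module.Finite.finite_basis b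
  let g : κ → B := fun i => (a i).1
  let e := Finsupp.linearCombination B fun i => D A B (g i)
  let f₀ : (κ →₀ B) →ₗ[B] (κ →₀ Bq) := Finsupp.mapRange.linearMap (Algebra.linearMap B Bq)
  have he : Function.Bijective (IsLocalizedModule.map q.primeCompl f₀ mk e) := by
    have : IsLocalizedModule.map q.primeCompl f₀ mk e = b.repr.symm.toLinearMap.restrictScalars B := by
      apply IsLocalizedModule.linearMap_ext q.primeCompl f₀ mk
      refine Finsupp.lhom_ext fun i x => ?_
      rw [LinearMap.comp_apply, IsLocalizedModule.map_apply]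
      simp only [LinearMap.comp_apply, f₀, Finsupp.mapRange.linearMap_apply,
        Finsupp.mapRange_single, Algebra.linearMap_apply, LinearMap.restrictScalars_apply, LinearEquiv.coe_coe,
        e, Finsupp.linearCombination_single, map_smul, Module.Basis.repr_symm_single]
      rw [algebraMap_smul, hb]
      exact congrArg (x • ·) (KaehlerDifferential.map_D A A B Bq (g i))
    rw [this]; exact b.repr.symm.bijective
  obtain ⟨h, hhq, hbij⟩ := exists_bijective_map_powers q.primeCompl f₀ mk e he
  refine ⟨h, κ, inferInstance, g, hhq, fun i => (a i).2, ?_⟩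
  intro Bh _ _ _ _ _
  haveI : Algebra.FormallySmooth B Bh := Algebra.FormallySmooth.of_isLocalization (.powers h)
  haveI : Algebra.FinitePresentation B Bh := IsLocalization.Away.finitePresentation h
  haveI : Algebra.FormallySmooth A Bh := Algebra.FormallySmooth.comp A B Bh
  haveI : Algebra.FinitePresentation A Bh := Algebra.FinitePresentation.trans A B Bh
  haveI : Algebra.Smooth A Bh := ⟨inferInstance, inferInstance⟩
  refine etale_quotient (A := A) (fun i => algebraMap B Bh (g i)) ?_
  let f₁ : (κ →₀ B) →ₗ[B] (κ →₀ Bh) := Finsupp.mapRange.linearMap (Algebra.linearMap B Bh)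
  let mh := KaehlerDifferential.map A A B Bh
  have h1 : IsLocalizedModule.map (.powers h) f₁ mh e =
      (Finsupp.linearCombination Bh fun i => D A Bh (algebraMap B Bh (g i))).restrictScalars B := by
    apply IsLocalizedModule.linearMap_ext (.powers h) f₁ mh
    refine Finsupp.lhom_ext fun i x => ?_
    rw [LinearMap.comp_apply, IsLocalizedModule.map_apply]
    simp only [LinearMap.comp_apply, f₁, Finsupp.mapRange.linearMap_apply,
      Finsupp.mapRange_single, Algebra.linearMap_apply, LinearMap.restrictScalars_apply,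
      e, Finsupp.linearCombination_single, map_smul]
    rw [algebraMap_smul]
    exact congrArg (x • ·) (KaehlerDifferential.map_D A A B Bh (g i))
  have h2 := congrArg DFunLike.coe (IsLocalizedModule.map_iso_commute (.powers h) f₁ mh e)
  rw [LinearMap.coe_comp, LinearMap.coe_comp, h1, LinearEquiv.coe_coe, LinearEquiv.coe_coe] at h2
  have h3 : Function.Bijective (IsLocalizedModule.map (.powers h) (LocalizedModule.mkLinearMap (.powers h) (κ →₀ B))
      (LocalizedModule.mkLinearMap (.powers h) Ω[B⁄A]) e) := hbij h dvd_rfl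
  have h4 := (IsLocalizedModule.iso (.powers h) mh).bijective.comp h3
  rw [← h2] at h4
  exact (Function.Bijective.of_comp_iff _ (IsLocalizedModule.iso (.powers h) f₁).bijective).1 h4

end Groth.Agent.EtSlice2
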